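import Groth.Agent.Lib.EllGroup15.ZeroIdeal
import Groth.Agent.Lib.Goodman.Divisor
import Groth.Agent.Lib.ArSurf29.DivSum
import Groth.Agent.Lib.Euler.Divisor
import Groth.Agent.Lib.Depth.Reduce
import Groth.Agent.Lib.Depth.Transfer
import Groth.Agent.Lib.Depth.CM
import Groth.Agent.Lib.Cohom.Serre
import Groth.Prelude.Def_CAlg

/-!
# Zero schemes of injective sections
-/

set_option autoImplicit false
set_option backward.isDefEq.respectTransparency false
set_option linter.style.haveILetI false

universe u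

open CategoryTheory CategoryTheory.Limits AlgebraicGeometry TopologicalSpace Opposite
open GrothLib.InvExt (mres IsGen)
open GrothLib.QCoh (stalkLin)

noncomputable section

namespace GrothLib.LefZero21

variable {X : Scheme.{u}} {L : X.Modules}

/-- A global section as a morphism. -/
theorem ofTop_secVal (s : Coh.structureModule X ⟶ L) :
    OX.ofTop (N := L) (PicF2.secVal L s ⊤) = s :=
  OX.hom_ext_top _ _ (OX.ofTop_app_top (N := L) (PicF2.secVal L s ⊤))

theorem isCanSec (hL : PicF.IsInvertible L) (s : Coh.structureModule X ⟶ L) :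
    GrothLib.SmCurveFam.IsCanSec (PicF2.zeroScheme L s) L (PicF2.secVal L s ⊤) := by
  have h := GrothLib.EllGroup15.isCanSec_zeroScheme hL (PicF2.secVal L s ⊤)
  rwa [ofTop_secVal] at h

/-- The zero scheme is cut out near each point by a function, regular if the section is injective. -/
theorem exists_local_eq (hL : PicF.IsInvertible L) (s : Coh.structureModule X ⟶ L) [Mono s] (x : X) :
    ∃ (T : X.affineOpens) (r : Γ(X, T.1)), x ∈ T.1 ∧ r ∈ nonZeroDivisors Γ(X, T.1) ∧
      (PicF2.zeroScheme L s).ideal T = Ideal.span {r} := by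
  obtain ⟨T, e, r, hxT, he, hr, hI⟩ := isCanSec hL s x
  refine ⟨T, r, hxT, mem_nonZeroDivisors_iff_right.2 fun b hb => ?_, hI⟩
  refine Cohom.app_injective_of_mono s T.1 ?_
  rw [Mero.Zero.app_eq_smul_secVal L s T.1 b]
  refine Eq.trans ?_ (map_zero (s.app T.1).hom).symm
  have hv : (show Γ(L, T.1) from PicF2.secVal L s T.1) = r • e := (Mero.Zero.secVal_eq_mres L s T.1).trans hr
  rw [hv, smul_smul, hb, zero_smul]

theorem isEffCartier (hL : PicF.IsInvertible L) (s : Coh.structureModule X ⟶ L) [Mono s] :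
    _root_.BlowUp.IsEffCartierIdeal (PicF2.zeroScheme L s) := fun x => by
  obtain ⟨T, r, hxT, hr, hI⟩ := exists_local_eq hL s x
  exact ⟨T, hxT, r, hr, hI⟩

theorem isInverseOf (hL : PicF.IsInvertible L) (s : Coh.structureModule X ⟶ L) [Mono s] :
    ClSub.IsInverseOf L (ClSub.idealMod (PicF2.zeroScheme L s)) :=
  GrothLib.EllGroup15.isInverseOf_of_isCanSec (isEffCartier hL s) (isCanSec hL s)

theorem depth_quot_stalk [IsLocallyNoetherian X] {I : X.IdealSheafData}
    (hI : _root_.BlowUp.IsEffCartierIdeal I) (x : X) {n : ℕ}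
    (h : x ∈ (I.support : Set X) → ((n + 1 : ℕ) : ℕ∞) ≤ LocCoh.depth (X.presheaf.stalk x) (X.presheaf.stalk x)) :
    (n : ℕ∞) ≤ LocCoh.depth (X.presheaf.stalk x) ((ClSub.quotMod I).presheaf.stalk x) := by
  let O := X.presheaf.stalk x
  let π : O →ₗ[O] (ClSub.quotMod I).presheaf.stalk x :=
    (stalkLin (ClSub.toSubscheme I) x).comp (HomSh.unitStalk x).toLinearMap
  have hπ : Function.Surjective π := by
    haveI := Euler.epi_toSubscheme I
    have h1 : Function.Surjective (stalkLin (ClSub.toSubscheme I) x) :=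
      (ModuleCat.epi_iff_surjective _).1 ((OX.epi_iff _).1 inferInstance x)
    exact h1.comp (HomSh.unitStalk x).surjective
  have hex : Function.Exact (stalkLin (ClSub.idealModι I) x) (stalkLin (ClSub.toSubscheme I) x) :=
    (ShortComplex.ShortExact.moduleCat_exact_iff_function_exact _).1
      ((OX.exact_iff _).1 (ArSurf29.shortExact_ideal I).exact x)
  have hker : LinearMap.ker π = Goodman.st I x := by
    ext c
    rw [LinearMap.mem_ker]
    constructor
    · intro hc
      obtain ⟨v, hv⟩ := (hex _).1 hc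
      exact ⟨v, (HomSh.unitStalk x).injective ((Goodman.stalkLin_idealModι I x v).symm.trans hv)⟩
    · rintro ⟨v, rfl⟩
      show stalkLin (ClSub.toSubscheme I) x (HomSh.unitStalk x _) = 0
      rw [← Goodman.stalkLin_idealModι]
      exact hex.apply_apply_eq_zero v
  let e : (O ⧸ Goodman.st I x) ≃ₗ[O] (ClSub.quotMod I).presheaf.stalk x :=
    (Submodule.quotEquivOfEq _ _ hker.symm).trans (π.quotKerEquivOfSurjective hπ)
  by_cases hx : x ∈ (I.support : Set X)
  swap
  · haveI : Subsingleton (O ⧸ Goodman.st I x) := by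
      rw [Goodman.st_of_notMem I hx]
      infer_instance
    haveI : Subsingleton ((ClSub.quotMod I).presheaf.stalk x) := e.symm.toEquiv.subsingleton
    rw [Depth.depth_eq_top_of_subsingleton]
    exact le_top
  haveI : Module.Finite O ((ClSub.quotMod I).presheaf.stalk x) := Module.Finite.of_surjective π hπ
  obtain ⟨T, hxT, r, hr, hT⟩ := hI x
  let c : O := X.presheaf.germ T.1 x hxT r
  have hst : Goodman.st I x = Ideal.span {c} := by
    rw [Goodman.st_eq I T hxT, hT, Ideal.map_span, Set.image_singleton]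
  have hcm : c ∈ IsLocalRing.maximalIdeal O := by
    rw [IsLocalRing.mem_maximalIdeal, mem_nonunits_iff]
    intro hu
    rw [← X.mem_basicOpen _ _ hxT] at hu
    have h1 : x ∈ (I.support : Set X) ∩ T.1 := ⟨hx, hxT⟩
    rw [I.coe_support_inter, hT] at h1
    exact (Scheme.mem_zeroLocus_iff X _ x).1 h1.1 r (Ideal.mem_span_singleton_self r) hu
  have hreg : IsSMulRegular O c := by
    letI := TopCat.Presheaf.algebra_section_stalk X.presheaf (U := T.1) ⟨x, hxT⟩
    haveI := T.2.isLocalization_stalk ⟨x, hxT⟩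
    haveI : Module.Flat Γ(X, T.1) O := IsLocalization.flat O (T.2.primeIdealOf ⟨x, hxT⟩).asIdeal.primeCompl
    have h1 : IsSMulRegular Γ(X, T.1) r := fun a b hab => (mul_cancel_left_mem_nonZeroDivisors hr).1 hab
    exact IsSMulRegular.of_flat h1
  have h1 := GrothLib.Depth.idealDepth_quotSMulTop_add_one (M := O) (I := IsLocalRing.maximalIdeal O) hcm hreg
  let e' : QuotSMulTop c O ≃ₗ[O] (ClSub.quotMod I).presheaf.stalk x := (Submodule.quotEquivOfEq _ _
    (by rw [← Submodule.ideal_span_singleton_smul, smul_eq_mul, Ideal.mul_top, hst])).trans e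
  rw [GrothLib.Depth.idealDepth_eq_of_equiv _ e'] at h1
  have h2 := h hx
  rw [LocCoh.depth] at h2 ⊢
  rw [← h1, Nat.cast_add, Nat.cast_one] at h2
  exact (ENat.add_le_add_iff_right ENat.one_ne_top).1 h2

end GrothLib.LefZero21
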